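import Cfsg.Agent.Lib.Helper3.S44.L1D
import Cfsg.Agent.Lib.Helper3.S44.Net

set_option autoImplicit false
set_option maxRecDepth 100000

namespace Cfsg.Agent.Lib.Helper3.S44.L1

open Cfsg.Agent.Lib.Helper11 Cfsg.Agent.Lib.Helper3

set_option maxHeartbeats 0
set_option Elab.async false

noncomputable def fc (i : ℕ) : ℕ := (fc0_0 i)
noncomputable def sc (i : ℕ) : ℕ := (sc0_0 i)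
noncomputable def nc (i : ℕ) : ℕ := (nc0_0 i)
noncomputable def cc (i : ℕ) : ℕ := (cc0_0 i)

def isH (l : ℕ) : Bool := decide (l ∈ [5, 7])
def gens : List ℕ := [1, 2]
def hl : List ℕ := [5, 7]
def dl : List (List ℕ × ℕ) := [([1], 3), ([2], 4), ([1], 6), ([6], 5), ([2, 2, 1, 2, 3, 4], 8), ([8], 7), ([5], 10), ([10], 9), ([7, 7, 5, 7, 6, 8, 8], 12), ([12], 11), ([9, 11, 11], 13), ([10, 11, 9, 11, 9], 14)]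
def BR_0 : List (List ℕ) := [[], [1, 6], [2, 2, 1, 2, 3, 4, 8], [5, 10], [7, 7, 5, 7, 6, 8, 8, 12], [9, 11, 11, 13], [10, 11, 9, 11, 9, 14], [1, 1, 1], [3, 3, 3], [2, 2, 2, 2, 2], [4, 4, 4, 4, 4], [1, 4, 1, 4, 1, 4, 1, 4, 1, 4, 1, 4, 1, 4, 1, 4, 1, 4, 1, 4], [3, 2, 3, 2, 3, 2, 3, 2, 3, 2, 3, 2, 3, 2, 3, 2, 3, 2, 3, 2], [1, 1, 1], [1, 1, 2, 1, 1, 2, 1, 1, 2, 1, 1, 2, 1, 1, 2, 1, 1, 2, 1, 1, 2, 1, 1, 2, 1, 1, 2, 1, 1, 2], [1, 4, 4, 1, 4, 4, 1, 4, 4, 1, 4, 4, 1, 4, 4, 1, 4, 4, 1, 4, 4, 1, 4, 4, 1, 4, 4, 1, 4, 4], [3, 3, 4, 3, 3, 4, 3, 3, 4, 3, 3, 4, 3, 3, 4, 3, 3, 4, 3, 3, 4, 3, 3, 4, 3, 3, 4, 3, 3, 4], [1, 1, 1, 2, 1, 1, 1, 2, 1, 1, 1, 2, 1, 1, 1, 2, 1, 1, 1, 2], [1, 1, 2, 2, 1, 1, 2, 2, 1, 1, 2, 2, 1, 1, 2, 2, 1, 1, 2, 2, 1, 1,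 2, 2, 1, 1, 2, 2, 1, 1, 2, 2, 1, 1, 2, 2, 1, 1, 2, 2], [1, 2, 2, 2, 1, 2, 2, 2, 1, 2, 2, 2, 1, 2, 2, 2, 1, 2, 2, 2, 1, 2, 2, 2, 1, 2, 2, 2, 1, 2, 2, 2, 1, 2, 2, 2, 1, 2, 2, 2], [3, 3, 4, 4, 3, 3, 4, 4, 3, 3, 4, 4, 3, 3, 4, 4, 3, 3, 4, 4, 3, 3, 4, 4, 3, 3, 4, 4, 3, 3, 4, 4, 3, 3, 4, 4, 3, 3, 4, 4], [3, 2, 3, 4, 3, 2, 3, 4, 3, 2, 3, 4, 3, 2, 3, 4, 3, 2, 3, 4, 3, 2, 3, 4, 3, 2, 3, 4, 3, 2, 3, 4, 3, 2, 3, 4, 3, 2, 3, 4], [3, 4, 4, 4, 3, 4, 4, 4, 3, 4, 4, 4, 3, 4, 4, 4, 3, 4, 4, 4, 3, 4, 4, 4, 3, 4, 4, 4, 3, 4, 4, 4, 3, 4, 4, 4, 3, 4, 4, 4], [4, 1, 2, 9, 12, 9, 11, 11, 8, 8, 6, 7], [4, 4, 3, 2, 1, 4, 4, 13, 14, 9, 12, 12, 9, 7, 5, 8], [2, 3, 2, 2, 1, 4, 3, 4, 11, 11, 7, 5, 7, 5, 8, 6], [2, 3, 2, 1, 2, 3, 2, 2, 7, 7, 5], [2, 2, 3, 2,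 1, 4, 4, 3, 4, 13, 11], [2, 1, 4, 4, 3, 2, 2, 1, 2, 2, 14, 9, 12, 12, 9, 7, 5, 7, 5, 8, 6], [2, 3, 4, 3, 2, 2, 3, 4, 3, 2, 2, 13, 14, 9, 12, 12, 12, 8, 8, 5], [2, 1, 4, 4, 1, 2, 1, 2, 2, 1, 4, 14, 10, 12, 12, 8, 8, 8, 8], [4, 4, 1, 2, 3, 2, 1, 4, 3, 2, 2, 13, 9, 12, 9, 11, 10, 8, 8, 5], [2, 3, 4, 3, 4, 1, 2, 3, 4, 3, 4, 14, 11, 9, 8, 8, 5, 8]]
def BR : List (List ℕ) := BR_0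
def rt : RT := (.node 42 (.node 21 (.node 10 (.node 5 (.node 2 (.node 1 (.leaf 0 0 []) (.leaf 2 2 [1, 2, 3, 4, 8, 2, 2])) (.node 3 (.leaf 9 2 [2, 2, 2, 2, 2]) (.node 4 (.leaf 1 1 [6, 1]) (.leaf 7 1 [1, 1, 1])))) (.node 7 (.node 6 (.leaf 2 6 [8, 2, 2, 1, 2, 3, 4]) (.leaf 8 1 [3, 3, 3])) (.node 8 (.leaf 3 1 [10, 5]) (.node 9 (.leaf 4 7 [12, 7, 7, 5, 7, 6, 8, 8]) (.leaf 1 0 [1, 6]))))) (.node 15 (.node 12 (.node 11 (.leaf 6 5 [14, 10, 11, 9, 11, 9]) (.leaf 5 3 [13, 9, 11, 11])) (.node 13 (.leaf 23 1 [1, 2, 9, 12, 9, 11, 11, 8, 8, 6, 7, 4]) (.node 14 (.leaf 24 3 [2, 1, 4, 4, 13, 14, 9, 12, 12, 9, 7, 5, 8, 4, 4, 3]) (.leaf 25 3 [2, 1, 4, 3, 4, 11, 11, 7, 5, 7, 5, 8, 6, 2, 3, 2])))) (.node 18 (.node 16 (.leaf 9 1 [2, 2, 2, 2, 2]) (.node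 17 (.leaf 26 4 [2, 3, 2, 2, 7, 7, 5, 2, 3, 2, 1]) (.leaf 26 8 [7, 7, 5, 2, 3, 2, 1, 2, 3, 2, 2]))) (.node 19 (.leaf 9 3 [2, 2, 2, 2, 2]) (.node 20 (.leaf 2 3 [2, 3, 4, 8, 2, 2, 1]) (.leaf 27 4 [1, 4, 4, 3, 4, 13, 11, 2, 2, 3, 2])))))) (.node 31 (.node 26 (.node 23 (.node 22 (.leaf 7 2 [1, 1, 1]) (.leaf 28 5 [2, 2, 1, 2, 2, 14, 9, 12, 12, 9, 7, 5, 7, 5, 8, 6, 2, 1, 4, 4, 3])) (.node 24 (.leaf 9 4 [2, 2, 2, 2, 2]) (.node 25 (.leaf 26 10 [5, 2, 3, 2, 1, 2, 3, 2, 2, 7, 7]) (.leaf 17 9 [1, 1, 2, 1, 1, 1, 2, 1, 1, 1, 2, 1, 1, 1, 2, 1, 1, 1, 2, 1])))) (.node 28 (.node 27 (.leaf 26 9 [7, 5, 2, 3, 2, 1, 2, 3, 2, 2, 7]) (.leaf 29 5 [2, 3, 4, 3, 2, 2, 13, 14, 9, 12, 12, 12, 8, 8, 5, 2, 3, 4, 3, 2])) (.node 29 (.leaf 30 5 [2, 1, 2, 2, 1, 4,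 14, 10, 12, 12, 8, 8, 8, 8, 2, 1, 4, 4, 1]) (.node 30 (.leaf 31 5 [2, 1, 4, 3, 2, 2, 13, 9, 12, 9, 11, 10, 8, 8, 5, 4, 4, 1, 2, 3]) (.leaf 26 2 [2, 1, 2, 3, 2, 2, 7, 7, 5, 2, 3]))))) (.node 36 (.node 33 (.node 32 (.leaf 27 9 [13, 11, 2, 2, 3, 2, 1, 4, 4, 3, 4]) (.leaf 5 1 [11, 11, 13, 9])) (.node 34 (.leaf 23 11 [7, 4, 1, 2, 9, 12, 9, 11, 11, 8, 8, 6]) (.node 35 (.leaf 2 5 [4, 8, 2, 2, 1, 2, 3]) (.leaf 10 4 [4, 4, 4, 4, 4])))) (.node 39 (.node 37 (.leaf 32 5 [1, 2, 3, 4, 3, 4, 14, 11, 9, 8, 8, 5, 8, 2, 3, 4, 3, 4]) (.node 38 (.leaf 26 5 [3, 2, 2, 7, 7, 5, 2, 3, 2, 1, 2]) (.leaf 25 9 [11, 7, 5, 7, 5, 8, 6, 2, 3, 2, 2, 1, 4, 3, 4, 11]))) (.node 40 (.leaf 27 7 [3, 4, 13, 11, 2, 2, 3, 2, 1, 4, 4]) (.node 41 (.leaf 4 3 [7, 6, 8, 8,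 12, 7, 7, 5]) (.leaf 26 1 [3, 2, 1, 2, 3, 2, 2, 7, 7, 5, 2]))))))) (.node 63 (.node 52 (.node 47 (.node 44 (.node 43 (.leaf 2 4 [3, 4, 8, 2, 2, 1, 2]) (.leaf 8 2 [3, 3, 3])) (.node 45 (.leaf 12 3 [2, 3, 2, 3, 2, 3, 2, 3, 2, 3, 2, 3, 2, 3, 2, 3, 2, 3, 2, 3]) (.node 46 (.leaf 30 11 [14, 10, 12, 12, 8, 8, 8, 8, 2, 1, 4, 4, 1, 2, 1, 2, 2, 1, 4]) (.leaf 25 14 [8, 6, 2, 3, 2, 2, 1, 4, 3, 4, 11, 11, 7, 5, 7, 5])))) (.node 49 (.node 48 (.leaf 29 12 [14, 9, 12, 12, 12, 8, 8, 5, 2, 3, 4, 3, 2, 2, 3, 4, 3, 2, 2, 13]) (.leaf 6 1 [11, 9, 11, 9, 14, 10])) (.node 50 (.leaf 25 0 [2, 3, 2, 2, 1, 4, 3, 4, 11, 11, 7, 5, 7, 5, 8, 6]) (.node 51 (.leaf 31 13 [12, 9, 11, 10, 8, 8, 5, 4, 4, 1, 2, 3, 2, 1, 4, 3, 2, 2, 13, 9]) (.leaf 6 3 [11, 9, 14, 10,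 11, 9]))))) (.node 57 (.node 54 (.node 53 (.leaf 27 10 [11, 2, 2, 3, 2, 1, 4, 4, 3, 4, 13]) (.leaf 27 5 [4, 4, 3, 4, 13, 11, 2, 2, 3, 2, 1])) (.node 55 (.leaf 23 4 [12, 9, 11, 11, 8, 8, 6, 7, 4, 1, 2, 9]) (.node 56 (.leaf 25 4 [1, 4, 3, 4, 11, 11, 7, 5, 7, 5, 8, 6, 2, 3, 2, 2]) (.leaf 24 7 [13, 14, 9, 12, 12, 9, 7, 5, 8, 4, 4, 3, 2, 1, 4, 4])))) (.node 60 (.node 58 (.leaf 29 3 [3, 2, 2, 3, 4, 3, 2, 2, 13, 14, 9, 12, 12, 12, 8, 8, 5, 2, 3, 4]) (.node 59 (.leaf 11 2 [1, 4, 1, 4, 1, 4, 1, 4, 1, 4, 1, 4, 1, 4, 1, 4, 1, 4, 1, 4]) (.leaf 25 12 [7, 5, 8, 6, 2, 3, 2, 2, 1, 4, 3, 4, 11, 11, 7, 5]))) (.node 61 (.leaf 32 11 [14, 11, 9, 8, 8, 5, 8, 2, 3, 4, 3, 4, 1, 2, 3, 4, 3, 4]) (.node 62 (.leaf 11 5 [4, 1, 4, 1, 4, 1, 4, 1, 4, 1, 4, 1,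 4, 1, 4, 1, 4, 1, 4, 1]) (.leaf 32 12 [11, 9, 8, 8, 5, 8, 2, 3, 4, 3, 4, 1, 2, 3, 4, 3, 4, 14])))))) (.node 74 (.node 68 (.node 65 (.node 64 (.leaf 28 7 [1, 2, 2, 14, 9, 12, 12, 9, 7, 5, 7, 5, 8, 6, 2, 1, 4, 4, 3, 2, 2]) (.leaf 31 11 [13, 9, 12, 9, 11, 10, 8, 8, 5, 4, 4, 1, 2, 3, 2, 1, 4, 3, 2, 2])) (.node 66 (.leaf 10 3 [4, 4, 4, 4, 4]) (.node 67 (.leaf 11 6 [1, 4, 1, 4, 1, 4, 1, 4, 1, 4, 1, 4, 1, 4, 1, 4, 1, 4, 1, 4]) (.leaf 13 2 [1, 1, 1])))) (.node 71 (.node 69 (.leaf 21 36 [3, 2, 3, 4, 3, 2, 3, 4, 3, 2, 3, 4, 3, 2, 3, 4, 3, 2, 3, 4, 3, 2, 3, 4, 3, 2, 3, 4, 3, 2, 3, 4, 3, 2, 3, 4, 3, 2, 3, 4]) (.node 70 (.leaf 28 3 [4, 3, 2, 2, 1, 2, 2, 14, 9, 12, 12, 9, 7, 5, 7, 5, 8, 6, 2, 1, 4]) (.leaf 24 13 [7, 5, 8, 4, 4, 3, 2, 1, 4, 4,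 13, 14, 9, 12, 12, 9]))) (.node 72 (.leaf 32 1 [3, 4, 3, 4, 1, 2, 3, 4, 3, 4, 14, 11, 9, 8, 8, 5, 8, 2]) (.node 73 (.leaf 29 6 [3, 4, 3, 2, 2, 13, 14, 9, 12, 12, 12, 8, 8, 5, 2, 3, 4, 3, 2, 2]) (.leaf 32 14 [8, 8, 5, 8, 2, 3, 4, 3, 4, 1, 2, 3, 4, 3, 4, 14, 11, 9]))))) (.node 79 (.node 76 (.node 75 (.leaf 16 7 [3, 4, 3, 3, 4, 3, 3, 4, 3, 3, 4, 3, 3, 4, 3, 3, 4, 3, 3, 4, 3, 3, 4, 3, 3, 4, 3, 3, 4, 3]) (.leaf 26 7 [2, 7, 7, 5, 2, 3, 2, 1, 2, 3, 2])) (.node 77 (.leaf 15 27 [1, 4, 4, 1, 4, 4, 1, 4, 4, 1, 4, 4, 1, 4, 4, 1, 4, 4, 1, 4, 4, 1, 4, 4, 1, 4, 4, 1, 4, 4]) (.node 78 (.leaf 17 6 [1, 2, 1, 1, 1, 2, 1, 1, 1, 2, 1, 1, 1, 2, 1, 1, 1, 2, 1, 1]) (.leaf 19 34 [2, 2, 1, 2, 2, 2, 1, 2, 2, 2, 1, 2, 2, 2, 1, 2, 2, 2, 1, 2, 2, 2, 1, 2, 2,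 2, 1, 2, 2, 2, 1, 2, 2, 2, 1, 2, 2, 2, 1, 2])))) (.node 82 (.node 80 (.leaf 15 15 [1, 4, 4, 1, 4, 4, 1, 4, 4, 1, 4, 4, 1, 4, 4, 1, 4, 4, 1, 4, 4, 1, 4, 4, 1, 4, 4, 1, 4, 4]) (.node 81 (.leaf 20 1 [3, 4, 4, 3, 3, 4, 4, 3, 3, 4, 4, 3, 3, 4, 4, 3, 3, 4, 4, 3, 3, 4, 4, 3, 3, 4, 4, 3, 3, 4, 4, 3, 3, 4, 4, 3, 3, 4, 4, 3]) (.leaf 22 4 [3, 4, 4, 4, 3, 4, 4, 4, 3, 4, 4, 4, 3, 4, 4, 4, 3, 4, 4, 4, 3, 4, 4, 4, 3, 4, 4, 4, 3, 4, 4, 4, 3, 4, 4, 4, 3, 4, 4, 4]))) (.node 83 (.leaf 18 24 [1, 1, 2, 2, 1, 1, 2, 2, 1, 1, 2, 2, 1, 1, 2, 2, 1, 1, 2, 2, 1, 1, 2, 2, 1, 1, 2, 2, 1, 1, 2, 2, 1, 1, 2, 2, 1, 1, 2, 2]) (.node 84 (.leaf 27 2 [3, 2, 1, 4, 4, 3, 4, 13, 11, 2, 2]) (.leaf 14 9 [1, 1, 2, 1, 1, 2, 1, 1, 2, 1, 1, 2, 1, 1, 2, 1, 1, 2, 1, 1, 2, 1,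 1, 2, 1, 1, 2, 1, 1, 2]))))))))

theorem b0 : allR (guardB 3 (blk fc sc rt.get Cfsg.Agent.Lib.Helper3.S44.INV isH)) 2 0 = true := by decide +kernel
theorem c0 : allR (guardB 3 (cblk fc nc cc 768 85 79228162514264337593543950336 gens)) 2 0 = true := by decide +kernel

theorem chkAll : ∀ j < 3, blk fc sc rt.get Cfsg.Agent.Lib.Helper3.S44.INV isH j = true :=
  guardB_spec (D := 2) b0 (by norm_num)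

theorem clAll : ∀ jb < 3, cblk fc nc cc (256 * 3) 85 79228162514264337593543950336 gens jb = true :=
  guardB_spec (D := 2) c0 (by norm_num)

theorem hid_0 : BR_0.all (wordId (ntOf Cfsg.Agent.Lib.Helper3.S44.ntl) 7) = true := by decide +kernel
theorem hid : BR.all (wordId (ntOf Cfsg.Agent.Lib.Helper3.S44.ntl) 7) = true := by
  simp only [BR, List.all_append, hid_0, Bool.and_self]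

theorem card_eq : Nat.card (lgrp (vL Cfsg.Agent.Lib.Helper3.S44.ntl Cfsg.Agent.Lib.Helper3.S44.deg) gens) = 85 * Nat.card (lgrp (vL Cfsg.Agent.Lib.Helper3.S44.ntl Cfsg.Agent.Lib.Helper3.S44.deg) hl) :=
  Cfsg.Agent.Lib.Helper3.S44.setup.level gens hl dl BR (by decide +kernel) (by decide +kernel) hid (by decide +kernel)
    (by decide +kernel) rt (by decide +kernel) isH (fun l h => of_decide_eq_true h) fc sc nc cc 3 3 85 79228162514264337593543950336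
    (by norm_num) (by norm_num) (by decide +kernel) (by decide) chkAll clAll
    0 0 9 (by norm_num [Cfsg.Agent.Lib.Helper3.S44.deg]) (by norm_num [Cfsg.Agent.Lib.Helper3.S44.deg]) (by decide +kernel) (by decide +kernel)

theorem ub {M : Type*} [Group M] (w : ℕ → M) (h0 : w 0 = 1) (hinv : ∀ l, w (invL Cfsg.Agent.Lib.Helper3.S44.INV l) = (w l)⁻¹)
    (hBR : ∀ r ∈ BR, (r.map w).prod = 1)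
    (hdlr : ∀ r ∈ dl.map (fun p => p.1 ++ [p.2]), (r.map w).prod = 1) (N : ℕ) (hN : Bd w hl N) :
    Bd w gens (85 * N) :=
  level_bd w Cfsg.Agent.Lib.Helper3.S44.INV h0 hinv gens hl dl BR (by decide +kernel) hdlr hBR (by decide +kernel) (by decide +kernel)
    rt (by decide +kernel) isH (fun l h => of_decide_eq_true h) fc sc nc cc 3 3 85 79228162514264337593543950336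
    (by norm_num) (by norm_num) (by decide +kernel) (by decide) chkAll clAll N hN

end Cfsg.Agent.Lib.Helper3.S44.L1
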