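import Cfsg.Agent.Lib.Helper3.S44.L2D
import Cfsg.Agent.Lib.Helper3.S44.Net

set_option autoImplicit false
set_option maxRecDepth 100000

namespace Cfsg.Agent.Lib.Helper3.S44.L2

open Cfsg.Agent.Lib.Helper11 Cfsg.Agent.Lib.Helper3

set_option maxHeartbeats 0
set_option Elab.async false

noncomputable def fc (i : ℕ) : ℕ := (fc0_0 i)
noncomputable def sc (i : ℕ) : ℕ := (sc0_0 i)
noncomputable def nc (i : ℕ) : ℕ := (nc0_0 i)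
noncomputable def cc (i : ℕ) : ℕ := (cc0_0 i)

def isH (l : ℕ) : Bool := decide (l ∈ [9, 11])
def gens : List ℕ := [5, 7]
def hl : List ℕ := [9, 11]
def dl : List (List ℕ × ℕ) := [([5], 6), ([7], 8), ([5], 10), ([10], 9), ([7, 7, 5, 7, 6, 8, 8], 12), ([12], 11), ([9, 11, 11], 13), ([10, 11, 9, 11, 9], 14)]
def BR_0 : List (List ℕ) := [[], [5, 10], [7, 7, 5, 7, 6, 8, 8, 12], [9, 11, 11, 13], [10, 11, 9, 11, 9, 14], [5, 5, 5], [6, 6, 6], [5, 8, 5, 8, 5, 8, 5, 8, 5, 8, 5, 8], [5, 5, 7, 5, 5, 7, 5, 5, 7, 5, 5, 7, 5, 5, 7, 5, 5, 7], [5, 7, 7, 5, 7, 7, 5, 7, 7, 5, 7, 7], [6, 6, 8, 6, 6, 8, 6, 6, 8, 6, 6, 8, 6, 6, 8, 6, 6, 8], [6, 8, 8, 6, 8, 8, 6, 8, 8, 6, 8, 8], [5, 5, 8, 8, 5, 5, 8, 8, 5, 5, 8, 8, 5, 5, 8, 8], [5, 7, 5, 8, 5, 7, 5, 8, 5, 7, 5, 8, 5, 7, 5, 8, 5, 7, 5, 8, 5, 7, 5, 8],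 [5, 7, 6, 8, 5, 7, 6, 8, 5, 7, 6, 8], [5, 8, 6, 7, 5, 8, 6, 7, 5, 8, 6, 7], [6, 6, 7, 7, 6, 6, 7, 7, 6, 6, 7, 7, 6, 6, 7, 7], [6, 7, 7, 7, 6, 7, 7, 7, 6, 7, 7, 7, 6, 7, 7, 7, 6, 7, 7, 7, 6, 7, 7, 7], [8, 5, 7, 9, 12, 10, 11, 10], [7, 6, 8, 5, 7, 5, 8, 13, 9, 12, 10, 11, 10], [7, 5, 7, 7, 5, 8, 6, 8, 9, 12, 9]]
def BR : List (List ℕ) := BR_0
def rt : RT := (.node 27 (.node 13 (.node 6 (.node 3 (.node 1 (.leaf 0 0 []) (.node 2 (.leaf 2 3 [7, 6, 8, 8, 12, 7, 7, 5]) (.leaf 1 1 [10, 5]))) (.node 4 (.leaf 5 1 [5, 5, 5]) (.node 5 (.leaf 3 3 [13, 9, 11, 11]) (.leaf 1 0 [5, 10])))) (.node 9 (.node 7 (.leaf 9 5 [7, 5, 7, 7, 5, 7, 7, 5, 7, 7, 5, 7]) (.node 8 (.leaf 18 1 [5, 7, 9, 12, 10, 11, 10, 8]) (.leaf 2 7 [12, 7, 7, 5, 7, 6, 8, 8]))) (.node 11 (.node 10 (.leaf 7 4 [5, 8, 5, 8, 5, 8, 5,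 8, 5, 8, 5, 8]) (.leaf 19 3 [5, 7, 5, 8, 13, 9, 12, 10, 11, 10, 7, 6, 8])) (.node 12 (.leaf 14 4 [5, 7, 6, 8, 5, 7, 6, 8, 5, 7, 6, 8]) (.leaf 20 3 [7, 5, 8, 6, 8, 9, 12, 9, 7, 5, 7]))))) (.node 20 (.node 16 (.node 14 (.leaf 20 9 [12, 9, 7, 5, 7, 7, 5, 8, 6, 8, 9]) (.node 15 (.leaf 9 2 [7, 5, 7, 7, 5, 7, 7, 5, 7, 7, 5, 7]) (.leaf 15 1 [8, 6, 7, 5, 8, 6, 7, 5, 8, 6, 7, 5]))) (.node 18 (.node 17 (.leaf 18 4 [12, 10, 11, 10, 8, 5, 7, 9]) (.leaf 2 2 [5, 7, 6, 8, 8, 12, 7, 7])) (.node 19 (.leaf 19 7 [13, 9, 12, 10, 11, 10, 7, 6, 8, 5, 7, 5, 8]) (.leaf 19 1 [6, 8, 5, 7, 5, 8, 13, 9, 12, 10, 11, 10, 7])))) (.node 23 (.node 21 (.leaf 4 5 [14, 10, 11, 9, 11, 9]) (.node 22 (.leaf 3 0 [9, 11, 11, 13]) (.leaf 6 1 [6, 6, 6]))) (.node 25 (.node 24 (.leaf 14 10 [6, 8, 5, 7, 6, 8, 5, 7, 6, 8, 5,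 7]) (.leaf 18 6 [11, 10, 8, 5, 7, 9, 12, 10])) (.node 26 (.leaf 4 3 [11, 9, 14, 10, 11, 9]) (.leaf 20 2 [7, 7, 5, 8, 6, 8, 9, 12, 9, 7, 5])))))) (.node 41 (.node 34 (.node 30 (.node 28 (.leaf 20 7 [8, 9, 12, 9, 7, 5, 7, 7, 5, 8, 6]) (.node 29 (.leaf 2 6 [8, 12, 7, 7, 5, 7, 6, 8]) (.leaf 9 6 [5, 7, 7, 5, 7, 7, 5, 7, 7, 5, 7, 7]))) (.node 32 (.node 31 (.leaf 16 8 [6, 6, 7, 7, 6, 6, 7, 7, 6, 6, 7, 7, 6, 6, 7, 7]) (.leaf 19 0 [7, 6, 8, 5, 7, 5, 8, 13, 9, 12, 10, 11, 10])) (.node 33 (.leaf 19 9 [12, 10, 11, 10, 7, 6, 8, 5, 7, 5, 8, 13, 9]) (.leaf 3 1 [11, 11, 13, 9])))) (.node 37 (.node 35 (.leaf 5 2 [5, 5, 5]) (.node 36 (.leaf 9 4 [7, 7, 5, 7, 7, 5, 7, 7, 5, 7, 7, 5]) (.leaf 2 5 [8, 8, 12, 7, 7, 5, 7, 6]))) (.node 39 (.node 38 (.leaf 12 1 [5, 8, 8, 5, 5, 8, 8, 5, 5, 8, 8, 5, 5, 8, 8,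 5]) (.leaf 18 0 [8, 5, 7, 9, 12, 10, 11, 10])) (.node 40 (.leaf 19 2 [8, 5, 7, 5, 8, 13, 9, 12, 10, 11, 10, 7, 6]) (.leaf 14 5 [7, 6, 8, 5, 7, 6, 8, 5, 7, 6, 8, 5]))))) (.node 48 (.node 44 (.node 42 (.leaf 10 13 [6, 8, 6, 6, 8, 6, 6, 8, 6, 6, 8, 6, 6, 8, 6, 6, 8, 6]) (.node 43 (.leaf 7 6 [5, 8, 5, 8, 5, 8, 5, 8, 5, 8, 5, 8]) (.leaf 8 2 [7, 5, 5, 7, 5, 5, 7, 5, 5, 7, 5, 5, 7, 5, 5, 7, 5, 5]))) (.node 46 (.node 45 (.leaf 8 11 [7, 5, 5, 7, 5, 5, 7, 5, 5, 7, 5, 5, 7, 5, 5, 7, 5, 5]) (.leaf 13 3 [8, 5, 7, 5, 8, 5, 7, 5, 8, 5, 7, 5, 8, 5, 7, 5, 8, 5, 7, 5, 8, 5, 7, 5])) (.node 47 (.leaf 15 7 [7, 5, 8, 6, 7, 5, 8, 6, 7, 5, 8, 6]) (.leaf 17 17 [7, 7, 7, 6, 7, 7, 7, 6, 7, 7, 7, 6, 7, 7, 7, 6, 7, 7, 7, 6, 7, 7, 7, 6])))) (.node 51 (.node 49 (.leaf 11 4 [8, 8, 6, 8, 8, 6, 8, 8, 6, 8, 8, 6])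 (.node 50 (.leaf 2 1 [7, 5, 7, 6, 8, 8, 12, 7]) (.leaf 20 5 [8, 6, 8, 9, 12, 9, 7, 5, 7, 7, 5]))) (.node 53 (.node 52 (.leaf 2 4 [6, 8, 8, 12, 7, 7, 5, 7]) (.leaf 7 10 [5, 8, 5, 8, 5, 8, 5, 8, 5, 8, 5, 8])) (.node 54 (.leaf 10 16 [6, 8, 6, 6, 8, 6, 6, 8, 6, 6, 8, 6, 6, 8, 6, 6, 8, 6]) (.leaf 16 3 [7, 6, 6, 7, 7, 6, 6, 7, 7, 6, 6, 7, 7, 6, 6, 7])))))))

theorem b0 : allR (guardB 2 (blk fc sc rt.get Cfsg.Agent.Lib.Helper3.S44.INV isH)) 1 0 = true := by decide +kernel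
theorem c0 : allR (guardB 2 (cblk fc nc cc 512 64 79228162514264337593543950336 gens)) 1 0 = true := by decide +kernel

theorem chkAll : ∀ j < 2, blk fc sc rt.get Cfsg.Agent.Lib.Helper3.S44.INV isH j = true :=
  guardB_spec (D := 1) b0 (by norm_num)

theorem clAll : ∀ jb < 2, cblk fc nc cc (256 * 2) 64 79228162514264337593543950336 gens jb = true :=
  guardB_spec (D := 1) c0 (by norm_num)

theorem hid_0 : BR_0.all (wordId (ntOf Cfsg.Agent.Lib.Helper3.S44.ntl) 7) = true := by decide +kernel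
theorem hid : BR.all (wordId (ntOf Cfsg.Agent.Lib.Helper3.S44.ntl) 7) = true := by
  simp only [BR, List.all_append, hid_0, Bool.and_self]

theorem card_eq : Nat.card (lgrp (vL Cfsg.Agent.Lib.Helper3.S44.ntl Cfsg.Agent.Lib.Helper3.S44.deg) gens) = 64 * Nat.card (lgrp (vL Cfsg.Agent.Lib.Helper3.S44.ntl Cfsg.Agent.Lib.Helper3.S44.deg) hl) :=
  Cfsg.Agent.Lib.Helper3.S44.setup.level gens hl dl BR (by decide +kernel) (by decide +kernel) hid (by decide +kernel)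
    (by decide +kernel) rt (by decide +kernel) isH (fun l h => of_decide_eq_true h) fc sc nc cc 2 2 64 79228162514264337593543950336
    (by norm_num) (by norm_num) (by decide +kernel) (by decide) chkAll clAll
    1 1 7 (by norm_num [Cfsg.Agent.Lib.Helper3.S44.deg]) (by norm_num [Cfsg.Agent.Lib.Helper3.S44.deg]) (by decide +kernel) (by decide +kernel)

theorem ub {M : Type*} [Group M] (w : ℕ → M) (h0 : w 0 = 1) (hinv : ∀ l, w (invL Cfsg.Agent.Lib.Helper3.S44.INV l) = (w l)⁻¹)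
    (hBR : ∀ r ∈ BR, (r.map w).prod = 1)
    (hdlr : ∀ r ∈ dl.map (fun p => p.1 ++ [p.2]), (r.map w).prod = 1) (N : ℕ) (hN : Bd w hl N) :
    Bd w gens (64 * N) :=
  level_bd w Cfsg.Agent.Lib.Helper3.S44.INV h0 hinv gens hl dl BR (by decide +kernel) hdlr hBR (by decide +kernel) (by decide +kernel)
    rt (by decide +kernel) isH (fun l h => of_decide_eq_true h) fc sc nc cc 2 2 64 79228162514264337593543950336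
    (by norm_num) (by norm_num) (by decide +kernel) (by decide) chkAll clAll N hN

end Cfsg.Agent.Lib.Helper3.S44.L2
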